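import Groth.Agent.EtVal88.Core
import Mathlib

/-!
# Rank one valued fields and their completions
-/

set_option autoImplicit false

universe u

open TensorProduct UniformSpace Valued

namespace Groth.Agent.EtVal88.Completion

section One

variable {K Γ₀ : Type u} [Field K] [LinearOrderedCommGroupWithZero Γ₀] [hK : Valued K Γ₀]

lemma exists_near (c : Completion K) : ∃ k : K, (Valued.v : Valuation (Completion K) Γ₀) (c - k) ≤ 1 := by
  have hopen : IsOpen {d : Completion K | (Valued.v : Valuation (Completion K) Γ₀) (c - d) ≤ 1} :=
    (Valued.isOpen_valuationSubring (Completion K)).preimage (continuous_const.sub continuous_id)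
  obtain ⟨_, h, k, rfl⟩ := (Completion.denseRange_coe (α := K)).inter_open_nonempty _ hopen ⟨c, by simp⟩
  exact ⟨k, h⟩

lemma exists_pow_mul_le_one [hK.v.RankOne] {w : K} (hw : hK.v w < 1) (y : K) :
    ∃ n : ℕ, hK.v (w ^ n * y) ≤ 1 := by
  letI : NormedField K := Valued.toNormedField K Γ₀
  have h1 : ‖w‖ < 1 := Valued.toNormedField.norm_lt_one_iff.2 hw
  by_cases hy : y = 0
  · exact ⟨0, by simp [hy]⟩
  obtain ⟨n, hn⟩ := exists_pow_lt_of_lt_one (inv_pos.2 (norm_pos_iff.2 hy)) h1
  refine ⟨n, Valued.toNormedField.norm_le_one_iff.1 ?_⟩
  rw [norm_mul, norm_pow]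
  calc ‖w‖ ^ n * ‖y‖ ≤ ‖y‖⁻¹ * ‖y‖ := by gcongr
    _ = 1 := inv_mul_cancel₀ (norm_ne_zero_iff.2 hy)

lemma exists_pow_mul_le_one' [hK.v.RankOne] {w : K} (hw : hK.v w < 1) (c : Completion K) :
    ∃ n : ℕ, (Valued.v : Valuation (Completion K) Γ₀) ((w : Completion K) ^ n * c) ≤ 1 := by
  obtain ⟨k, hk⟩ := exists_near c
  obtain ⟨n, hn⟩ := exists_pow_mul_le_one hw k
  refine ⟨n, ?_⟩
  have hwn : (Valued.v : Valuation (Completion K) Γ₀) ((w : Completion K) ^ n) ≤ 1 := by
    rw [map_pow, valuedCompletion_apply]
    exact pow_le_one₀ zero_le hw.le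
  have : ((w : Completion K) ^ n * c) = (w : Completion K) ^ n * (c - k) + ((w ^ n * k : K) : Completion K) := by
    rw [Completion.coe_mul, show ((w ^ n : K) : Completion K) = (w : Completion K) ^ n from
      map_pow (Completion.coeRingHom (α := K)) w n]
    ring
  rw [this]
  refine Valuation.map_add_le _ ?_ ?_
  · rw [map_mul]
    exact mul_le_one₀ hwn zero_le hk
  · rw [valuedCompletion_apply]
    exact hn

lemma exists_small [hK.v.RankOne] : ∃ w : K, w ≠ 0 ∧ hK.v w < 1 := by
  obtain ⟨x, h0, h1⟩ := Valuation.RankOne.nontrivial hK.v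
  rcases lt_or_gt_of_ne h1 with h | h
  · exact ⟨x, fun e => h0 (by simp [e]), h⟩
  · refine ⟨x⁻¹, inv_ne_zero fun e => h0 (by simp [e]), ?_⟩
    rw [map_inv₀]
    exact inv_lt_one_of_one_lt₀ h

/-- The valuation subring inside the completed one. -/
noncomputable def toHat : hK.v.valuationSubring →+* (Valued.v : Valuation (Completion K) Γ₀).valuationSubring :=
  (Completion.coeRingHom (α := K)).restrict _ _ fun x hx => by
    show (Valued.v : Valuation (Completion K) Γ₀) (x : Completion K) ≤ 1
    rw [valuedCompletion_apply]
    exact hx

lemma isLocalHom_toHat : IsLocalHom (toHat (K := K) (hK := hK)) := by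
  refine ⟨fun x hx => ?_⟩
  have h1 := (Valuation.Integers.isUnit_iff_valuation_eq_one
    (Valuation.integer.integers (Valued.v : Valuation (Completion K) Γ₀))).1 hx
  change (Valued.v : Valuation (Completion K) Γ₀) ((x : K) : Completion K) = 1 at h1
  rw [valuedCompletion_apply] at h1
  exact (Valuation.Integers.isUnit_iff_valuation_eq_one (Valuation.integer.integers hK.v)).2 h1

lemma flat_of_injective (S : Type u) [CommRing S] [IsDomain S] [Algebra hK.v.valuationSubring S]
    (h : Function.Injective (algebraMap hK.v.valuationSubring S)) : Module.Flat hK.v.valuationSubring S := by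
  rw [Module.Flat.flat_iff_torsion_eq_bot_of_isBezout, eq_bot_iff]
  intro x hx
  obtain ⟨⟨a, ha⟩, hax⟩ := (Submodule.mem_torsion_iff x).1 hx
  have : a • x = 0 := hax
  rw [Algebra.smul_def, mul_eq_zero] at this
  exact this.resolve_left fun e => nonZeroDivisors.ne_zero ha (h (by rw [e, map_zero]))

end One

section Two

variable {K L Γ₀ Γ₁ : Type u} [Field K] [Field L] [Algebra K L]
  [LinearOrderedCommGroupWithZero Γ₀] [LinearOrderedCommGroupWithZero Γ₁]
  [hK : Valued K Γ₀] [hL : Valued L Γ₁] [hK.v.HasExtension hL.v] (hc : Continuous (algebraMap K L))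

include hc in
lemma map_integer (x : Completion K) (hx : (Valued.v : Valuation (Completion K) Γ₀) x ≤ 1) :
    (Valued.v : Valuation (Completion L) Γ₁) (Completion.mapRingHom (algebraMap K L) hc x) ≤ 1 := by
  revert hx
  induction x using Completion.induction_on with
  | hp =>
    simp only [imp_iff_not_or]
    exact (Valued.isOpen_valuationSubring (Completion K)).isClosed_compl.union
      ((Valued.isClosed_valuationSubring (Completion L)).preimage
        (by simpa only [Completion.mapRingHom_apply] using! Completion.continuous_map))
  | ih k =>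
    intro hk
    rw [Completion.mapRingHom_coe, valuedCompletion_apply]
    rw [valuedCompletion_apply] at hk
    exact (Valuation.HasExtension.val_map_le_one_iff hK.v hL.v k).2 hk

include hc in
lemma proj_surjective [FiniteDimensional K L] [hK.v.RankOne] :
    letI : Algebra (Completion K) (Completion L) := (Completion.mapRingHom (algebraMap K L) hc).toAlgebra
    ∀ z : Completion L, z ∈ Submodule.span (Completion K) (Set.range fun y : L => (y : Completion L)) := by
  letI : Algebra (Completion K) (Completion L) := (Completion.mapRingHom (algebraMap K L) hc).toAlgebra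
  letI : NormedField K := Valued.toNormedField K Γ₀
  letI : NontriviallyNormedField (Completion K) := NontriviallyNormedField.ofNormNeOne (by
    obtain ⟨w, hw0, hw⟩ := exists_small (K := K) (Γ₀ := Γ₀)
    refine ⟨(w : Completion K), fun h => hw0 ?_, ?_⟩
    · exact (Completion.coe_injective K) (h.trans Completion.coe_zero.symm)
    · rw [Completion.norm_coe]
      exact (Valued.toNormedField.norm_lt_one_iff.2 hw).ne)
  haveI : ContinuousSMul (Completion K) (Completion L) := continuousSMul_of_algebraMap _ _ (by
    show Continuous (Completion.mapRingHom (algebraMap K L) hc)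
    simpa only [Completion.mapRingHom_apply] using! Completion.continuous_map)
  let b := Module.finBasis K L
  let V := Submodule.span (Completion K) (Set.range fun i => ((b i : L) : Completion L))
  haveI : FiniteDimensional (Completion K) V := Module.Finite.span_of_finite _ (Set.finite_range _)
  have hy : ∀ y : L, (y : Completion L) ∈ V := by
    intro y
    rw [← b.sum_repr y]
    have : ((∑ i, b.repr y i • b i : L) : Completion L) = ∑ i, ((b.repr y i : K) : Completion K) • ((b i : L) : Completion L) := by
      refine (map_sum (Completion.coeRingHom (α := L)) _ _).trans ?_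
      refine Finset.sum_congr rfl fun i _ => ?_
      show ((b.repr y i • b i : L) : Completion L) = _
      rw [Algebra.smul_def, Completion.coe_mul, Algebra.smul_def,
        RingHom.algebraMap_toAlgebra, Completion.mapRingHom_coe]
    rw [this]
    exact Submodule.sum_mem _ fun i _ => Submodule.smul_mem _ _ (Submodule.subset_span ⟨i, rfl⟩)
  have hclosed : IsClosed (V : Set (Completion L)) := V.closed_of_finiteDimensional
  intro z
  have hV : z ∈ (V : Set (Completion L)) :=
    Completion.induction_on z hclosed hy
  exact Submodule.span_mono (by rintro _ ⟨i, rfl⟩; exact ⟨b i, rfl⟩) hV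

include hc in
theorem etale_iff [FiniteDimensional K L] [hK.v.RankOne] [hL.v.RankOne] :
    Algebra.Etale hK.v.valuationSubring hL.v.valuationSubring ↔
      (Algebra.IsSeparable K L ∧
        ((Completion.mapRingHom (algebraMap K L) hc).restrict
          (Valued.v : Valuation (Completion K) Γ₀).valuationSubring
          (Valued.v : Valuation (Completion L) Γ₁).valuationSubring (map_integer hc)).Etale) := by
  let R := hK.v.valuationSubring
  let O := hL.v.valuationSubring
  let R' := (Valued.v : Valuation (Completion K) Γ₀).valuationSubring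
  let O' := (Valued.v : Valuation (Completion L) Γ₁).valuationSubring
  let ψ : R' →+* O' := (Completion.mapRingHom (algebraMap K L) hc).restrict R' O' (map_integer hc)
  letI : Algebra (Completion K) (Completion L) := (Completion.mapRingHom (algebraMap K L) hc).toAlgebra
  haveI : ContinuousConstSMul K L := ⟨fun c => by simp only [Algebra.smul_def]; exact continuous_const_mul _⟩
  haveI : UniformContinuousConstSMul K L := uniformContinuousConstSMul_of_continuousConstSMul K L
  haveI : ContinuousConstSMul R K := ⟨fun c => by simp only [Algebra.smul_def]; exact continuous_const_mul _⟩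
  haveI : UniformContinuousConstSMul R K := uniformContinuousConstSMul_of_continuousConstSMul R K
  haveI : IsScalarTower K (Completion K) (Completion L) := IsScalarTower.of_algebraMap_eq fun k =>
    (Completion.mapRingHom_coe hc k).symm
  letI : Algebra R R' := (toHat (K := K) (hK := hK)).toAlgebra
  haveI : IsScalarTower R K (Completion K) := IsScalarTower.of_algebraMap_eq fun _ => rfl
  haveI : IsScalarTower R R' (Completion K) := IsScalarTower.of_algebraMap_eq fun _ => rfl
  letI : Algebra R' O' := ψ.toAlgebra
  letI : Algebra R' (Completion L) := ((algebraMap (Completion K) (Completion L)).comp (algebraMap R' (Completion K))).toAlgebra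
  haveI : IsScalarTower R' (Completion K) (Completion L) := IsScalarTower.of_algebraMap_eq fun _ => rfl
  haveI : IsScalarTower R' O' (Completion L) := IsScalarTower.of_algebraMap_eq fun _ => rfl
  haveI : Module.Flat R O := flat_of_injective _ fun a b h =>
    Subtype.ext ((algebraMap K L).injective (congrArg Subtype.val h))
  haveI : Module.Flat R (Completion K) := flat_of_injective _ fun a b h =>
    Subtype.ext (Completion.coe_injective K h)
  haveI : Module.Flat R R' := flat_of_injective _ fun a b h =>
    Subtype.ext (Completion.coe_injective K (congrArg Subtype.val h))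
  haveI : IsLocalHom (algebraMap R R') := isLocalHom_toHat
  haveI : Module.FaithfullyFlat R R' := Module.FaithfullyFlat.of_flat_of_isLocalHom
  let ι : L →ₐ[K] Completion L := { (Completion.coeRingHom (α := L)) with commutes' := fun _ => rfl }
  obtain ⟨w, hw0, hw⟩ := exists_small (K := K) (Γ₀ := Γ₀)
  let ϖ : R' := toHat ⟨w, hw.le⟩
  have hϖ : ((ϖ : Completion K)) = (w : Completion K) := rfl
  haveI : IsLocalization.Away ϖ (Completion K) := by
    refine IsLocalization.Away.mk ϖ ?_ (fun c => ?_) (fun a b h => ⟨0, by rw [pow_zero, one_mul, one_mul]; exact Subtype.ext h⟩)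
    · exact isUnit_iff_ne_zero.2 fun h => hw0 ((Completion.coe_injective K) ((hϖ.symm.trans h).trans Completion.coe_zero.symm))
    · obtain ⟨n, hn⟩ := exists_pow_mul_le_one' hw c
      exact ⟨n, ⟨_, hn⟩, mul_comm _ _⟩
  have hpi : Function.Surjective (Core.proj K (Completion K) L (Completion L) ι) := by
    intro z
    have hz := proj_surjective hc z
    have : Submodule.span (Completion K) (Set.range fun y : L => (y : Completion L)) ≤
        LinearMap.range (Core.proj K (Completion K) L (Completion L) ι).toLinearMap := Submodule.span_le.2 (by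
      rintro _ ⟨y, rfl⟩
      exact ⟨1 ⊗ₜ y, by simp [Core.proj_tmul, ι]; rfl⟩)
    exact this hz
  have key := Core.etale_iff R K R' (Completion K) L O (Completion L) O' Subtype.val_injective
    Subtype.val_injective Subtype.val_injective ι hpi ϖ
    (fun c => by
      obtain ⟨k, hk⟩ := exists_near c
      exact ⟨k, ⟨_, hk⟩, rfl⟩)
    (fun y => by
      rintro ⟨a, ha⟩
      refine ⟨⟨y, ?_⟩, rfl⟩
      show hL.v y ≤ 1
      rw [← valuedCompletion_apply (K := L)]
      exact (congrArg (Valued.v : Valuation (Completion L) Γ₁) ha.symm).trans_le a.2)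
    (fun o => ⟨⟨((o : L) : Completion L), by
      show (Valued.v : Valuation (Completion L) Γ₁) _ ≤ 1
      rw [valuedCompletion_apply]
      exact o.2⟩, rfl⟩)
    (fun y => by
      have hwL : hL.v (algebraMap K L w) < 1 := (Valuation.HasExtension.val_map_lt_one_iff hK.v hL.v w).2 hw
      obtain ⟨n, hn⟩ := exists_pow_mul_le_one hwL y
      refine ⟨(⟨w, hw.le⟩ : R) ^ n, pow_ne_zero _ fun h => hw0 (congrArg Subtype.val h),
        ⟨_, hn⟩, ?_⟩
      rw [map_pow]
      rfl)
  exact key

end Two

end Groth.Agent.EtVal88.Completion
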