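import Mathlib
import Groth.Agent.IndAlg.EtaleLift

/-!
# Étaleness of an order against its completion

`R ⊆ K`, `O ⊆ L` orders, `R' ⊆ K'`, `O' ⊆ L'` completed ones: `R' ⊗ O` is the preimage of `O'` in
`K' ⊗ L`, so étaleness over `R` is étaleness of `O'` over `R'` plus separability.
-/

set_option autoImplicit false

universe u

open TensorProduct

namespace Groth.Agent.EtVal88.Core

section Image

variable (R K R' K' L O L' O' : Type u) [CommRing R] [Field K] [CommRing R'] [Field K'] [Field L]
  [CommRing O] [Field L'] [CommRing O']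
  [Algebra R K] [IsFractionRing R K] [Algebra R R'] [Algebra R' K'] [Algebra R K'] [IsScalarTower R R' K']
  [Algebra K K'] [IsScalarTower R K K'] [Algebra R O] [Algebra O L] [Algebra R L] [IsScalarTower R O L]
  [Algebra K L] [IsScalarTower R K L] [Algebra K L'] [Algebra K' L'] [IsScalarTower K K' L']
  [Algebra R' O'] [Algebra O' L'] [Algebra R' L'] [IsScalarTower R' O' L'] [IsScalarTower R' K' L']

/-- The comparison map. -/
noncomputable def jmap : R' ⊗[R] O →ₐ[R] K' ⊗[K] L :=
  Algebra.TensorProduct.lift
    (((Algebra.TensorProduct.includeLeft : K' →ₐ[K] K' ⊗[K] L).restrictScalars R).comp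
      (IsScalarTower.toAlgHom R R' K'))
    (((Algebra.TensorProduct.includeRight : L →ₐ[K] K' ⊗[K] L).restrictScalars R).comp
      (IsScalarTower.toAlgHom R O L)) fun _ _ => Commute.all _ _

lemma jmap_tmul (r : R') (o : O) :
    jmap R K R' K' L O (r ⊗ₜ o) = algebraMap R' K' r ⊗ₜ[K] algebraMap O L o := by
  simp [jmap]

lemma jmap_injective [Module.Flat R O] [Module.Flat R K'] (h' : Function.Injective (algebraMap R' K'))
    (hO : Function.Injective (algebraMap O L)) : Function.Injective (jmap R K R' K' L O) := by
  let f : R' →ₗ[R] K' := (IsScalarTower.toAlgHom R R' K').toLinearMap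
  let g : O →ₗ[R] L := (IsScalarTower.toAlgHom R O L).toLinearMap
  let e : K' ⊗[K] L ≃ₗ[K] K' ⊗[R] L := IsLocalization.moduleTensorEquiv (nonZeroDivisors R) K K' L
  have h1 : Function.Injective (TensorProduct.map f g) := by
    rw [← LinearMap.lTensor_comp_rTensor, LinearMap.coe_comp]
    exact (Module.Flat.lTensor_preserves_injective_linearMap _ hO).comp
      (Module.Flat.rTensor_preserves_injective_linearMap _ h')
  have h2 : ∀ x, e (jmap R K R' K' L O x) = TensorProduct.map f g x := by
    intro x
    induction x using TensorProduct.induction_on with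
    | zero => simp
    | tmul r o => rw [jmap_tmul]; rfl
    | add x y hx hy => simp [map_add, hx, hy]
  intro x y hxy
  exact h1 (by rw [← h2, ← h2, hxy])

/-- The projection to the completion. -/
noncomputable def proj (ι : L →ₐ[K] L') : K' ⊗[K] L →ₐ[K'] L' :=
  Algebra.TensorProduct.lift (Algebra.ofId K' L') ι fun _ _ => Commute.all _ _

lemma proj_tmul (ι : L →ₐ[K] L') (c : K') (y : L) : proj K K' L L' ι (c ⊗ₜ y) = algebraMap K' L' c * ι y := by
  simp [proj]

theorem range_jmap [FiniteDimensional K L] (ι : L →ₐ[K] L')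
    (hdense : ∀ c : K', ∃ k : K, ∃ r : R', c - algebraMap K K' k = algebraMap R' K' r)
    (hcap : ∀ y : L, (∃ o', algebraMap O' L' o' = ι y) → ∃ o, algebraMap O L o = y)
    (hint : ∀ o : O, ∃ o', algebraMap O' L' o' = ι (algebraMap O L o))
    (hcof : ∀ y : L, ∃ r : R, r ≠ 0 ∧ ∃ o, algebraMap O L o = algebraMap R L r * y)
    (x : K' ⊗[K] L) :
    (∃ o', algebraMap O' L' o' = proj K K' L L' ι x) ↔ x ∈ Set.range (jmap R K R' K' L O) := by
  constructor
  · intro hx
    let b := Module.finBasis K L
    choose r hr o ho using fun i => hcof (b i)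
    have hunit : ∀ i, algebraMap R K (r i) ≠ 0 := fun i h => hr i (IsFractionRing.to_map_eq_zero_iff.1 h)
    let b' := b.unitsSMul fun i => Units.mk0 _ (hunit i)
    have hb' : ∀ i, b' i = algebraMap O L (o i) := fun i => by
      rw [ho, Module.Basis.unitsSMul_apply, IsScalarTower.algebraMap_apply R K L, Units.smul_def,
        Algebra.smul_def]
      rfl
    let B := Algebra.TensorProduct.basis K' b'
    choose k c hc using fun i => hdense (B.repr x i)
    have hxsum : x = (1 : K') ⊗ₜ[K] (∑ i, k i • b' i) + ∑ i, jmap R K R' K' L O (c i ⊗ₜ o i) := by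
      conv_lhs => rw [← B.sum_repr x]
      rw [TensorProduct.tmul_sum, ← Finset.sum_add_distrib]
      refine Finset.sum_congr rfl fun i _ => ?_
      rw [jmap_tmul, ← hb', ← hc, TensorProduct.tmul_smul, TensorProduct.smul_tmul', ← TensorProduct.add_tmul,
        Algebra.TensorProduct.basis_apply, TensorProduct.smul_tmul', smul_eq_mul, mul_one,
        ← Algebra.algebraMap_eq_smul_one, add_sub_cancel]
    have hy : ∃ o', algebraMap O' L' o' = ι (∑ i, k i • b' i) := by
      obtain ⟨a, ha⟩ := hx
      choose a' ha' using fun i => hint (o i)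
      refine ⟨a - ∑ i, algebraMap R' O' (c i) * a' i, ?_⟩
      rw [hxsum, map_add, map_sum, proj_tmul, map_one, one_mul] at ha
      have heach : ∀ i, algebraMap O' L' (algebraMap R' O' (c i) * a' i) =
          proj K K' L L' ι (jmap R K R' K' L O (c i ⊗ₜ o i)) := fun i => by
        rw [jmap_tmul, proj_tmul, map_mul, ha', ← IsScalarTower.algebraMap_apply R' O' L',
          IsScalarTower.algebraMap_apply R' K' L']
      rw [map_sub, ha, map_sum (algebraMap O' L')]
      rw [Finset.sum_congr rfl fun i _ => heach i]
      abel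
    obtain ⟨y, hy⟩ := hcap _ hy
    refine ⟨1 ⊗ₜ y + ∑ i, c i ⊗ₜ o i, ?_⟩
    rw [map_add, map_sum, jmap_tmul, map_one, hy]
    exact hxsum.symm
  · rintro ⟨t, rfl⟩
    induction t using TensorProduct.induction_on with
    | zero => exact ⟨0, by simp⟩
    | tmul r o =>
      obtain ⟨a, ha⟩ := hint o
      refine ⟨algebraMap R' O' r * a, ?_⟩
      rw [jmap_tmul, proj_tmul, map_mul, ha, ← IsScalarTower.algebraMap_apply R' O' L',
        IsScalarTower.algebraMap_apply R' K' L']
    | add s t hs ht =>
      obtain ⟨a, ha⟩ := hs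
      obtain ⟨b, hb⟩ := ht
      exact ⟨a + b, by rw [map_add, map_add, map_add, ha, hb]⟩

end Image

/-- In a reduced Artinian ring every maximal ideal is generated by an idempotent. -/
theorem exists_idempotent {M : Type u} [CommRing M] [IsArtinianRing M] [IsReduced M] (m : Ideal M)
    (hm : m.IsMaximal) : ∃ e : M, e ∈ m ∧ e * e = e ∧ ∀ x ∈ m, x = x * e := by
  classical
  let others := (PrimeSpectrum.asIdeal '' (Set.univ : Set (PrimeSpectrum M))) \ {m}
  have hfin : others.Finite := (Set.finite_univ.image _).subset Set.diff_subset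
  let J := hfin.toFinset.inf id
  have hcop : m ⊔ J = ⊤ := by
    rw [show J = ⨅ P ∈ hfin.toFinset, P from Finset.inf_eq_iInf _ _]
    refine Ideal.sup_iInf_eq_top fun P hP => ?_
    obtain ⟨⟨q, -, rfl⟩, hne⟩ := hfin.mem_toFinset.1 hP
    exact hm.coprime_of_ne (IsArtinianRing.isMaximal_of_isPrime q.asIdeal) (fun h => hne h.symm)
  have h1 : (1 : M) ∈ m ⊔ J := hcop ▸ Submodule.mem_top
  obtain ⟨e, he, f, hf, hef⟩ := Submodule.mem_sup.1 h1
  have hzero : ∀ x ∈ m, x * f = 0 := by
    intro x hx
    have : x * f ∈ nilradical M := by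
      rw [nilradical_eq_sInf, Ideal.mem_sInf]
      intro P hP
      by_cases h : P = m
      · exact h ▸ m.mul_mem_right _ hx
      · have hP' : P ∈ hfin.toFinset := hfin.mem_toFinset.2 ⟨⟨⟨P, hP⟩, trivial, rfl⟩, h⟩
        exact P.mul_mem_left _ ((Finset.inf_le (f := id) hP' : J ≤ P) hf)
    rwa [nilradical_eq_zero, Ideal.zero_eq_bot, Ideal.mem_bot] at this
  refine ⟨e, he, ?_, fun x hx => ?_⟩
  · calc e * e = e * e + e * f := by rw [hzero e he, add_zero]
      _ = e := by rw [← mul_add, hef, mul_one]
  · calc x = x * (e + f) := by rw [hef, mul_one]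
      _ = x * e := by rw [mul_add, hzero x hx, add_zero]

section Equiv

variable (R K R' K' L O L' O' : Type u) [CommRing R] [IsDomain R] [Field K] [CommRing R'] [Field K'] [Field L]
  [CommRing O] [Field L'] [CommRing O']
  [Algebra R K] [IsFractionRing R K] [Algebra R R'] [Algebra R' K'] [Algebra R K'] [IsScalarTower R R' K']
  [Algebra K K'] [IsScalarTower R K K'] [Algebra R O] [Algebra O L] [Algebra R L] [IsScalarTower R O L]
  [Algebra K L] [IsScalarTower R K L] [FiniteDimensional K L]
  [Algebra K L'] [Algebra K' L'] [IsScalarTower K K' L']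
  [Algebra R' O'] [Algebra O' L'] [Algebra R' L'] [IsScalarTower R' O' L'] [IsScalarTower R' K' L']

theorem etale_iff [Module.Flat R O] [Module.Flat R K'] [Module.FaithfullyFlat R R']
    (h' : Function.Injective (algebraMap R' K')) (hO : Function.Injective (algebraMap O L))
    (hO' : Function.Injective (algebraMap O' L')) (ι : L →ₐ[K] L')
    (hsurj : Function.Surjective (proj K K' L L' ι)) (ϖ : R') [IsLocalization.Away ϖ K']
    (hdense : ∀ c : K', ∃ k : K, ∃ r : R', c - algebraMap K K' k = algebraMap R' K' r)
    (hcap : ∀ y : L, (∃ o', algebraMap O' L' o' = ι y) → ∃ o, algebraMap O L o = y)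
    (hint : ∀ o : O, ∃ o', algebraMap O' L' o' = ι (algebraMap O L o))
    (hcof : ∀ y : L, ∃ r : R, r ≠ 0 ∧ ∃ o, algebraMap O L o = algebraMap R L r * y) :
    Algebra.Etale R O ↔ (Algebra.IsSeparable K L ∧ Algebra.Etale R' O') := by
  classical
  have hloc : IsLocalization (Algebra.algebraMapSubmonoid O (nonZeroDivisors R)) L := by
    have hmap : ∀ r : R, algebraMap O L (algebraMap R O r) = algebraMap R L r := fun r =>
      (IsScalarTower.algebraMap_apply R O L r).symm
    have hne : ∀ r : R, r ≠ 0 → algebraMap R L r ≠ 0 := fun r hr h => by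
      rw [IsScalarTower.algebraMap_apply R K L, map_eq_zero_iff _ (algebraMap K L).injective,
        IsFractionRing.to_map_eq_zero_iff] at h
      exact hr h
    rw [isLocalization_iff]
    refine ⟨?_, ?_, ?_⟩
    · rintro ⟨_, r, hr, rfl⟩
      exact (hmap r ▸ (isUnit_iff_ne_zero.2 (hne r (nonZeroDivisors.ne_zero hr))))
    · intro z
      obtain ⟨r, hr, o, ho⟩ := hcof z
      exact ⟨⟨o, ⟨_, r, mem_nonZeroDivisors_of_ne_zero hr, rfl⟩⟩, by rw [hmap, ho, mul_comm]⟩
    · intro x y h
      exact ⟨1, by rw [hO h]⟩
  have hsep_of : Algebra.Etale R O → Algebra.IsSeparable K L := by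
    intro h
    haveI := h
    haveI := hloc
    haveI : Algebra.FormallyEtale O L :=
      Algebra.FormallyEtale.of_isLocalization (Algebra.algebraMapSubmonoid O (nonZeroDivisors R))
    haveI : Algebra.FormallyEtale R L := Algebra.FormallyEtale.comp R O L
    haveI : Algebra.FormallyEtale K L := Algebra.FormallyEtale.localization_base (R := R) (nonZeroDivisors R)
    exact (Algebra.FormallyEtale.iff_isSeparable K L).1 inferInstance
  -- the comparison
  let j := jmap R K R' K' L O
  have hj : Function.Injective j := jmap_injective R K R' K' L O h' hO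
  have hrange := range_jmap R K R' K' L O L' O' ι hdense hcap hint hcof
  let π := proj K K' L L' ι
  choose toO' htoO' using fun t => (hrange (j t)).2 ⟨t, rfl⟩
  let q : R' ⊗[R] O →ₐ[R'] O' :=
    { toFun := toO'
      map_one' := hO' (by rw [htoO', map_one, map_one, map_one])
      map_mul' := fun a b => hO' (by rw [map_mul, htoO', htoO', htoO', map_mul, map_mul])
      map_zero' := hO' (by rw [htoO', map_zero, map_zero, map_zero])
      map_add' := fun a b => hO' (by rw [map_add, htoO', htoO', htoO', map_add, map_add])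
      commutes' := fun r => hO' (by
        rw [htoO', Algebra.TensorProduct.algebraMap_apply, ← IsScalarTower.algebraMap_apply R' O' L',
          IsScalarTower.algebraMap_apply R' K' L']
        show π (j (r ⊗ₜ 1)) = _
        simp [j, π, jmap_tmul, proj_tmul]) }
  have hqsurj : Function.Surjective q := fun a => by
    obtain ⟨x, hx⟩ := hsurj (algebraMap O' L' a)
    obtain ⟨t, rfl⟩ := (hrange x).1 ⟨a, hx.symm⟩
    exact ⟨t, hO' ((htoO' t).trans hx)⟩
  -- separability gives the splitting
  have hsplit : Algebra.IsSeparable K L → (Algebra.Etale R' O' ↔ Algebra.Etale R' (R' ⊗[R] O)) := by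
    intro hs
    haveI := hs
    haveI : Algebra.Etale K L :=
      { formallyEtale := (Algebra.FormallyEtale.iff_isSeparable K L).2 hs
        finitePresentation := Algebra.FinitePresentation.of_finiteType.1 inferInstance }
    haveI : Algebra.Etale K' (K' ⊗[K] L) := inferInstance
    haveI : IsReduced (K' ⊗[K] L) := Algebra.FormallyUnramified.isReduced_of_field K' _
    haveI : IsArtinianRing (K' ⊗[K] L) := IsArtinianRing.of_finite K' _
    have hker : (RingHom.ker π.toRingHom).IsMaximal := RingHom.ker_isMaximal_of_surjective _ hsurj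
    obtain ⟨u, hu, huu, hux⟩ := exists_idempotent _ hker
    have hu0 : π u = 0 := hu
    obtain ⟨u', hu'⟩ := (hrange u).1 ⟨0, by rw [map_zero]; exact hu0.symm⟩
    have hu'' : IsIdempotentElem u' := hj (by rw [map_mul, hu', huu])
    have hkerq : RingHom.ker q.toRingHom = Ideal.span {u'} := by
      ext t
      rw [RingHom.mem_ker, Ideal.mem_span_singleton']
      constructor
      · intro ht
        have ht' : π (j t) = 0 := by
          rw [← htoO' t]
          exact (congrArg (algebraMap O' L') ht).trans (map_zero _)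
        exact ⟨t, hj (by rw [map_mul, hu', ← hux _ ht'])⟩
      · rintro ⟨a, rfl⟩
        apply hO'
        rw [map_zero]
        show algebraMap O' L' (toO' (a * u')) = 0
        rw [htoO', map_mul, hu', map_mul]
        rw [hu0, mul_zero]
    letI : Algebra (R' ⊗[R] O) O' := q.toRingHom.toAlgebra
    haveI : IsScalarTower R' (R' ⊗[R] O) O' := IsScalarTower.of_algebraMap_eq fun r => (q.commutes r).symm
    haveI hawayO : IsLocalization.Away (1 - u') O' := IsLocalization.away_of_isIdempotentElem hu''.one_sub
      (by rw [sub_sub_cancel]; exact hkerq) hqsurj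
    -- the complementary factor
    let E := (K' ⊗[K] L) ⧸ Ideal.span {1 - u}
    have huI : IsIdempotentElem u := huu
    haveI hawayE : IsLocalization.Away u E := IsLocalization.away_of_isIdempotentElem huI
      Ideal.mk_ker Ideal.Quotient.mk_surjective
    haveI : Algebra.Etale (K' ⊗[K] L) E := Algebra.Etale.of_isLocalizationAway u
    haveI : Algebra.Etale R' K' := Algebra.Etale.of_isLocalizationAway ϖ
    haveI : Algebra.Etale K' E := Algebra.Etale.comp K' (K' ⊗[K] L) E
    haveI : IsScalarTower R' K' E := inferInstance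
    haveI hE : Algebra.Etale R' E := Algebra.Etale.comp R' K' E
    let s : R' ⊗[R] O →ₐ[R'] E :=
      { (Ideal.Quotient.mk (Ideal.span {1 - u})).comp j.toRingHom with
        commutes' := fun r => by
          show Ideal.Quotient.mk _ (j (algebraMap R' (R' ⊗[R] O) r)) = algebraMap K' E (algebraMap R' K' r)
          rw [Algebra.TensorProduct.algebraMap_apply]
          simp [j, jmap_tmul, E]
          rfl }
    have hbij : Function.Bijective (q.prod s) := by
      constructor
      · rw [injective_iff_map_eq_zero]
        intro t ht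
        have h1 : t ∈ RingHom.ker q.toRingHom := congrArg Prod.fst ht
        rw [hkerq, Ideal.mem_span_singleton'] at h1
        obtain ⟨a, rfl⟩ := h1
        have h2 : Ideal.Quotient.mk (Ideal.span {1 - u}) (j (a * u')) = 0 := congrArg Prod.snd ht
        rw [Ideal.Quotient.eq_zero_iff_mem, Ideal.mem_span_singleton'] at h2
        obtain ⟨b, hb⟩ := h2
        apply hj
        rw [map_zero, map_mul, hu'] at *
        have h3 : j a * u * u = b * (1 - u) * u := by rw [hb]
        rw [mul_assoc, huu, mul_assoc, sub_mul, one_mul, huu, sub_self, mul_zero] at h3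
        exact h3
      · rintro ⟨a, b⟩
        obtain ⟨x, rfl⟩ := Ideal.Quotient.mk_surjective b
        obtain ⟨t₀, rfl⟩ := hqsurj a
        obtain ⟨t₁, ht₁⟩ := (hrange (x * u)).1 ⟨0, by rw [map_zero, map_mul]; exact (by rw [hu0, mul_zero])⟩
        refine ⟨t₀ * (1 - u') + t₁, Prod.ext ?_ ?_⟩
        · show q (t₀ * (1 - u') + t₁) = q t₀
          have hq1 : q u' = 0 := by
            have : u' ∈ RingHom.ker q.toRingHom := hkerq ▸ Ideal.mem_span_singleton_self u'
            exact this
          have hq2 : q t₁ = 0 := hO' (by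
            rw [map_zero]
            show algebraMap O' L' (toO' t₁) = 0
            rw [htoO', ht₁, map_mul, hu0, mul_zero])
          rw [map_add, map_mul, map_sub, map_one, hq1, hq2, sub_zero, mul_one, add_zero]
        · show Ideal.Quotient.mk _ (j (t₀ * (1 - u') + t₁)) = Ideal.Quotient.mk _ x
          rw [Ideal.Quotient.eq, map_add, map_mul, map_sub, map_one, hu', ht₁, Ideal.mem_span_singleton']
          exact ⟨j t₀ - x, by ring⟩
    refine ⟨fun h => ?_, fun h => ?_⟩
    · haveI := h
      haveI : Algebra.Etale R' (O' × E) := IndAlg.EtaleLift.etale_prod R' O' E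
      exact Algebra.Etale.of_equiv (AlgEquiv.ofBijective (q.prod s) hbij).symm
    · haveI := h
      haveI : Algebra.Etale (R' ⊗[R] O) O' := Algebra.Etale.of_isLocalizationAway (1 - u')
      exact Algebra.Etale.comp R' (R' ⊗[R] O) O'
  constructor
  · intro h
    haveI := h
    exact ⟨hsep_of h, (hsplit (hsep_of h)).2 inferInstance⟩
  · rintro ⟨hs, h⟩
    haveI : Algebra.Etale R' (R' ⊗[R] O) := (hsplit hs).1 h
    exact Algebra.Etale.of_etale_tensorProduct_of_faithfullyFlat (R := R) (S := O) R'

end Equiv

end Groth.Agent.EtVal88.Core
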